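import Cfsg.Agent.Lib.Helper5.F11.H17.FrCDefs

/-!
CORE13 (S5679 + S5696), block L1 of `notes/S5679_core_leaves.lean`: cores of `vt_facts` (L1z) and `vt_irred` (L1a),
stated against the block-S facts (`rt_e`, `sys_of_ctx`) as hypotheses.
-/

set_option autoImplicit false
set_option linter.unusedSectionVars false
set_option linter.unusedVariables false

namespace Cfsg.Agent.Lib.Helper5.F11.H11.FrCLeaf

open Module QuadraticMap Matrix Cfsg.Agent.Lib.Helper25.CD Cfsg.Agent.Lib.Helper25.Spin
  Cfsg.Agent.Lib.Helper5.NSMax Cfsg.Agent.Lib.Helper5.PairMax Cfsg.Agent.Lib.Helper17.OC2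
  Cfsg.Agent.Lib.Helper29.FrStd Cfsg.Agent.Lib.Helper11.Mono Cfsg.Agent.Lib.Helper5.F11.H17.FrC

variable {κ : Type} [Fintype κ] [DecidableEq κ] {F : Type*} [Field F] [Fintype F]
  {c : F} {M : Subgroup ↥(Cfsg.isometryGroup F ⇑(stdQ κ F c))}

theorem e_apply (i l : κ) : (e i : κ → F) l = if l = i then 1 else 0 := by
  unfold e
  rw [Pi.single_apply]

theorem e_mem_VT {T : Finset κ} {i : κ} (hi : i ∈ T) : (e i : κ → F) ∈ VT T := by
  intro l hl
  rw [e_apply, if_neg (fun h : l = i => hl (h ▸ hi))]

theorem dot_e_right (u : κ → F) (i : κ) : u ⬝ᵥ (e i : κ → F) = u i := by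
  unfold e
  rw [dotProduct_single, mul_one]

theorem dot_e_left (u : κ → F) (i : κ) : (e i : κ → F) ⬝ᵥ u = u i := by
  unfold e
  rw [single_dotProduct, one_mul]

/-- a vector of `VT T` is the combination of the `e i`, `i ∈ T` -/
theorem eq_sum_of_mem_VT {T : Finset κ} {x : κ → F} (hx : x ∈ VT T) :
    x = ∑ i ∈ T, x i • (e i : κ → F) := by
  funext l
  rw [Finset.sum_apply]
  by_cases hl : l ∈ T
  · rw [Finset.sum_eq_single l]
    · rw [Pi.smul_apply, e_apply, if_pos rfl, smul_eq_mul, mul_one]
    · intro i _ hi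
      rw [Pi.smul_apply, e_apply, if_neg (Ne.symm hi), smul_zero]
    · intro h
      exact absurd hl h
  · rw [hx l hl]
    symm
    apply Finset.sum_eq_zero
    intro i hi
    rw [Pi.smul_apply, e_apply, if_neg (fun h : l = i => hl (h ▸ hi)), smul_zero]

/-- the restriction equivalence `VT T ≃ (T → F)` -/
noncomputable def vtEquiv (T : Finset κ) : (VT T : Submodule F (κ → F)) ≃ₗ[F] (T → F) where
  toFun x := fun i => x.1 i.1
  map_add' x y := rfl
  map_smul' a x := rfl
  invFun f := ⟨fun l => if h : l ∈ T then f ⟨l, h⟩ else 0, fun l hl => dif_neg hl⟩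
  left_inv x := by
    apply Subtype.ext
    funext l
    by_cases hl : l ∈ T
    · exact dif_pos hl
    · exact (dif_neg hl).trans (x.2 l hl).symm
  right_inv f := by
    funext i
    exact dif_pos i.2

theorem finrank_VT (T : Finset κ) : finrank F (VT T : Submodule F (κ → F)) = T.card := by
  rw [(vtEquiv (F := F) T).finrank_eq, Module.finrank_fintype_fun_eq_card, Fintype.card_coe]

/-- L1z, core form (`hfr` = leaf S1 `rt_e`). -/
theorem vt_facts_core (hfr : ∀ i, Rt c M (e i)) {T : Finset κ} (hT : T.card = 3) :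
    (VT T : Submodule F (κ → F)) = Submodule.span F {y : κ → F | Rt c M y ∧ y ∈ VT T} ∧
      finrank F (VT T : Submodule F (κ → F)) = 3 ∧
      (∀ u ∈ (VT T : Submodule F (κ → F)), (∀ v ∈ (VT T : Submodule F (κ → F)), u ⬝ᵥ v = 0) → u = 0) := by
  refine ⟨?_, ?_, ?_⟩
  · apply le_antisymm
    · intro x hx
      rw [eq_sum_of_mem_VT hx]
      apply Submodule.sum_mem
      intro i hi
      apply Submodule.smul_mem
      exact Submodule.subset_span ⟨hfr i, e_mem_VT hi⟩
    · rw [Submodule.span_le]
      intro y hy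
      exact hy.2
  · rw [finrank_VT, hT]
  · intro u hu huv
    funext l
    by_cases hl : l ∈ T
    · have := huv (e l) (e_mem_VT hl)
      rw [dot_e_right] at this
      exact this
    · exact hu l hl

/-- L1a, core form for an abstract root system (`Sys R`; leaf S4 `sys_of_ctx` gives it for `Rt c M`). -/
theorem vt_irred_core {R : (κ → F) → Prop} (hS : Sys R) {T : Finset κ} {x : κ → F} (hx : R x)
    (hxT : x ∈ VT T) (hB : ¬ IsB x) : ∀ w ∈ VT T, w ≠ 0 →
      ∃ y ∈ {y : κ → F | R y ∧ y ∈ VT T}, y ⬝ᵥ w ≠ 0 ∧ w ∉ Submodule.span F {y} := by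
  intro w hw hw0
  -- a non-zero coordinate of `w`
  obtain ⟨i, hi⟩ : ∃ i, w i ≠ 0 := by
    by_contra hcon
    push Not at hcon
    exact hw0 (funext hcon)
  have hiT : i ∈ T := by
    by_contra hiT
    exact hi (hw i hiT)
  by_cases hA : ∃ j, j ≠ i ∧ w j ≠ 0
  · -- case A: `y = e i`
    obtain ⟨j, hji, hj⟩ := hA
    refine ⟨e i, ⟨hS.frame i, e_mem_VT hiT⟩, ?_, ?_⟩
    · rw [dot_e_left]
      exact hi
    · intro hmem
      obtain ⟨t, ht⟩ := Submodule.mem_span_singleton.mp hmem
      have := congrFun ht j
      rw [Pi.smul_apply, e_apply, if_neg hji, smul_zero] at this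
      exact hj this.symm
  · -- case B: `w` is supported at `i`
    push Not at hA
    have hdot : ∀ y : κ → F, y ⬝ᵥ w = y i * w i := by
      intro y
      unfold dotProduct
      rw [Finset.sum_eq_single i]
      · intro l _ hl
        rw [hA l hl, mul_zero]
      · intro h
        exact absurd (Finset.mem_univ i) h
    -- it is enough to find a root of `VT T` with non-zero `i`-coordinate and another non-zero coordinate
    have key : ∀ y : κ → F, R y → y ∈ VT T → y i ≠ 0 → (∃ j, j ≠ i ∧ y j ≠ 0) →
        ∃ y ∈ {y : κ → F | R y ∧ y ∈ VT T}, y ⬝ᵥ w ≠ 0 ∧ w ∉ Submodule.span F {y} := by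
      intro y hy hyT hyi hyj
      obtain ⟨j, hji, hj⟩ := hyj
      refine ⟨y, ⟨hy, hyT⟩, ?_, ?_⟩
      · rw [hdot]
        exact mul_ne_zero hyi hi
      · intro hmem
        obtain ⟨t, ht⟩ := Submodule.mem_span_singleton.mp hmem
        have h1 := congrFun ht j
        rw [Pi.smul_apply, hA j hji, smul_eq_mul] at h1
        have ht0 : t = 0 := by
          rcases mul_eq_zero.mp h1 with h | h
          · exact h
          · exact absurd h hj
        have h2 := congrFun ht i
        rw [Pi.smul_apply, ht0, zero_smul] at h2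
        exact hi h2.symm
    -- `x` has at least two non-zero coordinates
    have hxu : x ⬝ᵥ x = 1 := hS.unit x hx
    obtain ⟨j, hj⟩ : ∃ j, x j ≠ 0 := by
      by_contra hcon
      push Not at hcon
      have : x = 0 := funext hcon
      rw [this, dotProduct_zero] at hxu
      exact zero_ne_one hxu
    obtain ⟨k, hkj, hk⟩ : ∃ k, k ≠ j ∧ x k ≠ 0 := by
      by_contra hcon
      push Not at hcon
      apply hB
      left
      refine ⟨j, ?_⟩
      have hxx : x ⬝ᵥ x = x j * x j := by
        unfold dotProduct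
        rw [Finset.sum_eq_single j]
        · intro l _ hl
          rw [hcon l hl, mul_zero]
        · intro h
          exact absurd (Finset.mem_univ j) h
      rw [hxx] at hxu
      have hxe : x = x j • (e j : κ → F) := by
        funext l
        rw [Pi.smul_apply, e_apply, smul_eq_mul]
        by_cases hl : l = j
        · rw [if_pos hl, mul_one, hl]
        · rw [if_neg hl, mul_zero, hcon l hl]
      rcases mul_self_eq_one_iff.mp hxu with h1 | h1
      · left
        rw [hxe, h1, one_smul]
      · right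
        rw [hxe, h1, neg_smul, one_smul]
    have hjT : j ∈ T := by
      by_contra hjT
      exact hj (hxT j hjT)
    have hkT : k ∈ T := by
      by_contra hkT
      exact hk (hxT k hkT)
    by_cases hxi : x i = 0
    · -- rotate: `σ i = j`, `σ j = k`, `σ k = i`
      have hji : j ≠ i := fun h => hj (h ▸ hxi)
      have hki : k ≠ i := fun h => hk (h ▸ hxi)
      let σ : Equiv.Perm κ := Equiv.swap i j * Equiv.swap j k
      have hσ : Equiv.Perm.sign σ = 1 := by
        rw [Equiv.Perm.sign_mul, Equiv.Perm.sign_swap (Ne.symm hji), Equiv.Perm.sign_swap (Ne.symm hkj)]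
        rfl
      have hσi : σ i = j := by
        change Equiv.swap i j (Equiv.swap j k i) = j
        rw [Equiv.swap_apply_of_ne_of_ne (Ne.symm hji) (Ne.symm hki), Equiv.swap_apply_left]
      have hσj : σ j = k := by
        change Equiv.swap i j (Equiv.swap j k j) = k
        rw [Equiv.swap_apply_left, Equiv.swap_apply_of_ne_of_ne hki hkj]
      have hσl : ∀ l, l ∉ T → σ l = l := by
        intro l hl
        have hli : l ≠ i := fun h => hl (h ▸ hiT)
        have hlj : l ≠ j := fun h => hl (h ▸ hjT)
        have hlk : l ≠ k := fun h => hl (h ▸ hkT)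
        change Equiv.swap i j (Equiv.swap j k l) = l
        rw [Equiv.swap_apply_of_ne_of_ne hlj hlk, Equiv.swap_apply_of_ne_of_ne hli hlj]
      apply key (x ∘ σ) (hS.perm x σ hσ hx)
      · intro l hl
        rw [Function.comp_apply, hσl l hl]
        exact hxT l hl
      · rw [Function.comp_apply, hσi]
        exact hj
      · refine ⟨j, hji, ?_⟩
        rw [Function.comp_apply, hσj]
        exact hk
    · -- `x` itself
      apply key x hx hxT hxi
      by_cases hji : j = i
      · exact ⟨k, fun h => hkj (h.trans hji.symm), hk⟩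
      · exact ⟨j, hji, hj⟩

end Cfsg.Agent.Lib.Helper5.F11.H11.FrCLeaf
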