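import Cfsg.Agent.Lib.Helper5.F11.H17.FrCDefs
import Cfsg.Agent.Lib.Helper5.F11.H15.FrCS
import Cfsg.Agent.Lib.Helper5.F11.H6.FrCD2
import Cfsg.Agent.Lib.Helper5.F11.H11.FrCL1zCore

/-!
CORE13 (S5679 + S5696), block L1 of `notes/S5679_core_leaves.lean`, EXACT signature: `vt_not_small_five` (L1d, `p = 5`).
-/

set_option autoImplicit false
set_option linter.unusedSectionVars false
set_option linter.unusedVariables false

namespace Cfsg.Agent.Lib.Helper5.F11.H11.FrCLeaf

open Module QuadraticMap Matrix Cfsg.Agent.Lib.Helper25.CD Cfsg.Agent.Lib.Helper25.Spin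
  Cfsg.Agent.Lib.Helper5.NSMax Cfsg.Agent.Lib.Helper5.PairMax Cfsg.Agent.Lib.Helper17.OC2
  Cfsg.Agent.Lib.Helper29.FrStd Cfsg.Agent.Lib.Helper11.Mono Cfsg.Agent.Lib.Helper5.F11.H17.FrC

variable {κ : Type} [Fintype κ] [DecidableEq κ] {F : Type*} [Field F] [Fintype F]
  {c : F} {M : Subgroup ↥(Cfsg.isometryGroup F ⇑(stdQ κ F c))}

/-- the dot square of a vector of `VT {i, j, k}` -/
theorem dot_self_of_mem_VT_three {i j k : κ} (hij : i ≠ j) (hik : i ≠ k) (hjk : j ≠ k) {x : κ → F}
    (hx : x ∈ VT ({i, j, k} : Finset κ)) : x ⬝ᵥ x = x i ^ 2 + x j ^ 2 + x k ^ 2 := by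
  unfold dotProduct
  rw [← Finset.sum_subset (Finset.subset_univ ({i, j, k} : Finset κ))]
  · rw [Finset.sum_insert, Finset.sum_insert, Finset.sum_singleton]
    · ring
    · rw [Finset.mem_singleton]
      exact hjk
    · rw [Finset.mem_insert, Finset.mem_singleton]
      rintro (h | h)
      · exact hij h
      · exact hik h
  · intro l _ hl
    rw [hx l hl, mul_zero]

/-- over `F_5`, a unit vector of a coordinate 3-space has a coordinate `± 1` -/
theorem exists_sq_one_five (h5 : Fintype.card F = 5) {T : Finset κ} (hT : T.card = 3) {x : κ → F}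
    (hxT : x ∈ VT T) (hx1 : x ⬝ᵥ x = 1) : ∃ i ∈ T, x i ^ 2 = 1 := by
  have : Fact (Nat.Prime 5) := ⟨by norm_num⟩
  have hch : CharP F 5 := charP_of_card_eq_prime h5
  have five : (5 : F) = 0 := by
    have := (CharP.cast_eq_zero_iff F 5 5).2 (dvd_refl 5)
    exact_mod_cast this
  have hnat : ∀ n : ℕ, 0 < n → n < 5 → ((n : ℕ) : F) ≠ 0 := by
    intro n hn0 hn5 h
    rw [CharP.cast_eq_zero_iff F 5] at h
    have := Nat.le_of_dvd hn0 h
    omega
  have h1 : (1 : F) ≠ 0 := one_ne_zero
  have h2 : (2 : F) ≠ 0 := by have := hnat 2 (by norm_num) (by norm_num); exact_mod_cast this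
  have h3 : (3 : F) ≠ 0 := by have := hnat 3 (by norm_num) (by norm_num); exact_mod_cast this
  have h4 : (4 : F) ≠ 0 := by have := hnat 4 (by norm_num) (by norm_num); exact_mod_cast this
  have hval : ∀ t : F, t = 0 ∨ t ^ 2 = 1 ∨ t ^ 2 = -1 := by
    intro t
    by_cases ht : t = 0
    · exact Or.inl ht
    · right
      have h4' : t ^ 4 = 1 := by
        have := FiniteField.pow_card_sub_one_eq_one t ht
        rwa [h5] at this
      have : (t ^ 2 - 1) * (t ^ 2 + 1) = 0 := by linear_combination h4'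
      rcases mul_eq_zero.1 this with h | h
      · exact Or.inl (sub_eq_zero.1 h)
      · exact Or.inr (eq_neg_of_add_eq_zero_left h)
  obtain ⟨i, j, k, hij, hik, hjk, rfl⟩ := Finset.card_eq_three.mp hT
  have hsum := dot_self_of_mem_VT_three hij hik hjk hxT
  rw [hx1] at hsum
  by_contra hcon
  push Not at hcon
  have hi := hcon i (by simp)
  have hj := hcon j (by simp)
  have hk := hcon k (by simp)
  have ci : x i ^ 2 = 0 ∨ x i ^ 2 = -1 := by
    rcases hval (x i) with h | h | h
    · left; rw [h]; ring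
    · exact absurd h hi
    · exact Or.inr h
  have cj : x j ^ 2 = 0 ∨ x j ^ 2 = -1 := by
    rcases hval (x j) with h | h | h
    · left; rw [h]; ring
    · exact absurd h hj
    · exact Or.inr h
  have ck : x k ^ 2 = 0 ∨ x k ^ 2 = -1 := by
    rcases hval (x k) with h | h | h
    · left; rw [h]; ring
    · exact absurd h hk
    · exact Or.inr h
  rcases ci with ci | ci <;> rcases cj with cj | cj <;> rcases ck with ck | ck <;>
    rw [ci, cj, ck] at hsum
  · exact h1 (by linear_combination hsum)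
  · exact h2 (by linear_combination hsum)
  · exact h2 (by linear_combination hsum)
  · exact h3 (by linear_combination hsum)
  · exact h2 (by linear_combination hsum)
  · exact h3 (by linear_combination hsum)
  · exact h3 (by linear_combination hsum)
  · exact h4 (by linear_combination hsum)

/-- L1d (`p = 5`).  A non-`B` unit vector of `VT T` has a coordinate `± 1`; `Small` for `(-r_{e_i})(-r_x)` and D2. -/
theorem vt_not_small_five (h : Ctx c M) (h5 : Fintype.card F = 5) {T : Finset κ} (hT : T.card = 3)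
    {x : κ → F} (hx : Rt c M x) (hxT : x ∈ VT T) (hB : ¬ IsB x) :
    ¬ Small c {y : κ → F | Rt c M y ∧ y ∈ VT T} (VT T) := by
  intro hsm
  obtain ⟨i, hiT, hi⟩ := exists_sq_one_five h5 hT hxT hx.1
  have hei : Rt c M (e i) := Cfsg.Agent.Lib.Helper5.F11.H15.FrCLeaf.rt_e h i
  have heiT : (e i : κ → F) ∈ VT T := e_mem_VT hiT
  have hg : negRefl (stdQ κ F c) (e i) * negRefl (stdQ κ F c) x ∈
      Subgroup.closure ((negRefl (stdQ κ F c)) '' {y : κ → F | Rt c M y ∧ y ∈ VT T}) := by
    apply Subgroup.mul_mem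
    · exact Subgroup.subset_closure ⟨e i, ⟨hei, heiT⟩, rfl⟩
    · exact Subgroup.subset_closure ⟨x, ⟨hx, hxT⟩, rfl⟩
  obtain ⟨k, hk1, hk5, hkp, hfix⟩ := hsm _ hg
  have h5' : 5 ≤ Fintype.card F := by rw [h5]
  have hres := Cfsg.Agent.Lib.Helper5.F11.H6.FrCLeaf.order_pair h.hc h.prime h5' hei.1 hx.1 hk1 hk5 hkp
    (hfix _ heiT) (hfix _ hxT)
  rw [dot_e_left] at hres
  rcases hres.2 hi with hxe | hxe
  · exact hB (Or.inl ⟨i, Or.inl hxe⟩)
  · exact hB (Or.inl ⟨i, Or.inr hxe⟩)

end Cfsg.Agent.Lib.Helper5.F11.H11.FrCLeaf
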