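import Cfsg.Agent.Lib.Helper5.F11.H17.FrCDefs
import Cfsg.Agent.Lib.Helper5.F11.H15.FrCS
import Cfsg.Agent.Lib.Helper5.F11.H11.FrCL1zCore

/-!
CORE13 (S5679 + S5696), block L1 of `notes/S5679_core_leaves.lean`, EXACT signatures: `vt_facts` (L1z), `vt_irred` (L1a).
-/

set_option autoImplicit false
set_option linter.unusedSectionVars false
set_option linter.unusedVariables false

namespace Cfsg.Agent.Lib.Helper5.F11.H11.FrCLeaf

open Module QuadraticMap Matrix Cfsg.Agent.Lib.Helper25.CD Cfsg.Agent.Lib.Helper25.Spin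
  Cfsg.Agent.Lib.Helper5.NSMax Cfsg.Agent.Lib.Helper5.PairMax Cfsg.Agent.Lib.Helper17.OC2
  Cfsg.Agent.Lib.Helper29.FrStd Cfsg.Agent.Lib.Helper11.Mono Cfsg.Agent.Lib.Helper5.F11.H17.FrC

variable {κ : Type} [Fintype κ] [DecidableEq κ] {F : Type*} [Field F] [Fintype F]
  {c : F} {M : Subgroup ↥(Cfsg.isometryGroup F ⇑(stdQ κ F c))}

/-- L1z.  `VT T` is spanned by `e_i, e_j, e_k` (roots, S1), has dimension 3, and the dot product is non-degenerate on it. -/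
theorem vt_facts (h : Ctx c M) {T : Finset κ} (hT : T.card = 3) :
    (VT T : Submodule F (κ → F)) = Submodule.span F {y : κ → F | Rt c M y ∧ y ∈ VT T} ∧
      finrank F (VT T : Submodule F (κ → F)) = 3 ∧
      (∀ u ∈ (VT T : Submodule F (κ → F)), (∀ v ∈ (VT T : Submodule F (κ → F)), u ⬝ᵥ v = 0) → u = 0) :=
  vt_facts_core (fun i => Cfsg.Agent.Lib.Helper5.F11.H15.FrCLeaf.rt_e h i) hT

/-- L1a.  The roots in `VT T` act irreducibly once there is a non-`B` root `x`. -/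
theorem vt_irred (h : Ctx c M) {T : Finset κ} (hT : T.card = 3) {x : κ → F} (hx : Rt c M x) (hxT : x ∈ VT T)
    (hB : ¬ IsB x) : ∀ w ∈ VT T, w ≠ 0 →
      ∃ y ∈ {y : κ → F | Rt c M y ∧ y ∈ VT T}, y ⬝ᵥ w ≠ 0 ∧ w ∉ Submodule.span F {y} :=
  vt_irred_core (Cfsg.Agent.Lib.Helper5.F11.H15.FrCLeaf.sys_of_ctx h) hx hxT hB

end Cfsg.Agent.Lib.Helper5.F11.H11.FrCLeaf
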